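import Mathlib

/-!
Automorphisms of the monomial group of order `4 (q - 1)` in `GL(2, q)` for a Fermat prime `q ≠ 5`
form a 2-group: an automorphism of odd prime order is trivial.
-/

set_option autoImplicit false

namespace Cfsg.Agent.Lib.Monomial2Aut

variable {G : Type*} [Group G]

theorem pow_apply_of_shift (α : MulAut G) {x z : G} (hx : α x = x * z) (hz : α z = z) (k : ℕ) :
    (α ^ k) x = x * z ^ k := by
  induction k with
  | zero => simp
  | succ k ih =>
    rw [pow_succ', MulAut.mul_apply, ih, map_mul, map_pow, hx, hz, pow_succ' z k, mul_assoc]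

/-- An element moved by a fixed shift of 2-power order is fixed. -/
theorem fixed_of_shift {r : ℕ} (hr : Odd r) {α : MulAut G} (hα : α ^ r = 1) {x z : G}
    (hx : α x = x * z) (hz : α z = z) {n : ℕ} (hn : z ^ (2 ^ n) = 1) : α x = x := by
  have h := pow_apply_of_shift α hx hz r
  rw [hα, MulAut.one_apply] at h
  have hzr : z ^ r = 1 := mul_eq_left.mp h.symm
  have h1 : orderOf z ∣ Nat.gcd r (2 ^ n) :=
    Nat.dvd_gcd (orderOf_dvd_of_pow_eq_one hzr) (orderOf_dvd_of_pow_eq_one hn)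
  rw [Nat.Coprime.gcd_eq_one (Nat.Coprime.pow_right n (Nat.coprime_comm.mp
    ((Nat.Prime.coprime_iff_not_dvd Nat.prime_two).mpr (by obtain ⟨i, rfl⟩ := hr; omega))))] at h1
  rw [hx, orderOf_eq_one_iff.mp (Nat.dvd_one.mp h1), mul_one]

/-- An automorphism of odd exponent fixes the elements it maps into a cyclic 2-group they generate. -/
theorem fixed_of_mem_zpowers [Finite G] {r : ℕ} (hr : Odd r) {α : MulAut G} (hα : α ^ r = 1) {x : G}
    (hmem : α x ∈ Subgroup.zpowers x) {n : ℕ} (hn : orderOf x = 2 ^ n) : α x = x := by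
  obtain ⟨i, hi⟩ := (mem_powers_iff_mem_zpowers.mpr hmem)
  have hk : ∀ k : ℕ, (α ^ k) x = x ^ (i ^ k) := by
    intro k
    induction k with
    | zero => simp
    | succ k ih =>
      rw [pow_succ', MulAut.mul_apply, ih, map_pow, ← hi, ← pow_mul, pow_succ']
  have h := hk r
  rw [hα, MulAut.one_apply] at h
  have hmod : (i : ZMod (2 ^ n)) ^ r = 1 := by
    rw [← Nat.cast_pow, ← Nat.cast_one, ZMod.natCast_eq_natCast_iff, ← hn]
    exact pow_eq_pow_iff_modEq.mp (by rw [pow_one]; exact h.symm)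
  rcases Nat.eq_zero_or_pos n with rfl | hn0
  · rw [pow_zero, orderOf_eq_one_iff] at hn
    rw [hn, map_one]
  have hu : IsUnit (i : ZMod (2 ^ n)) := IsUnit.of_pow_eq_one hmod (by obtain ⟨j, rfl⟩ := hr; omega)
  have hur : hu.unit ^ r = 1 := Units.ext (by rw [Units.val_pow_eq_pow_val]; exact hmod)
  haveI : NeZero (2 ^ n) := ⟨by positivity⟩
  have hc : hu.unit ^ (2 ^ (n - 1)) = 1 := by
    have hd := pow_card_eq_one (x := hu.unit)
    rwa [ZMod.card_units_eq_totient, Nat.totient_prime_pow Nat.prime_two hn0,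
      show (2 - 1 : ℕ) = 1 from rfl, mul_one] at hd
  have h1 : orderOf hu.unit ∣ Nat.gcd r (2 ^ (n - 1)) :=
    Nat.dvd_gcd (orderOf_dvd_of_pow_eq_one hur) (orderOf_dvd_of_pow_eq_one hc)
  rw [Nat.Coprime.gcd_eq_one (Nat.Coprime.pow_right _ (Nat.coprime_comm.mp
    ((Nat.Prime.coprime_iff_not_dvd Nat.prime_two).mpr (by obtain ⟨j, rfl⟩ := hr; omega))))] at h1
  have hi1 : (i : ZMod (2 ^ n)) = ((1 : ℕ) : ZMod (2 ^ n)) := by
    rw [Nat.cast_one, ← hu.unit_spec, orderOf_eq_one_iff.mp (Nat.dvd_one.mp h1), Units.val_one]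
  rw [ZMod.natCast_eq_natCast_iff, ← hn] at hi1
  exact hi.symm.trans ((pow_eq_pow_iff_modEq.mpr hi1).trans (pow_one x))

/-- The abstract structure: a homomorphic image `A` of pairs, and `w` outside it. -/
theorem trivial_of_odd [Finite G] {r : ℕ} (hr : Odd r) {α : MulAut G} (hα : α ^ r = 1)
    (A : Subgroup G) (hAc : ∀ x ∈ A, ∀ y ∈ A, x * y = y * x) {m : ℕ} (hm : 3 ≤ m)
    (g r0 c w : G) (hg : g ∈ A) (hr0A : r0 ∈ A) (hgo : orderOf g = 2 ^ m)
    (hgr : orderOf (g * r0) = 2 ^ m) (hr0 : r0 * r0 = 1) (hr0g : r0 ∉ Subgroup.zpowers g)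
    (hc : c = g ^ (2 ^ (m - 1))) (hsqA : ∀ x ∈ A, x * x ∈ Subgroup.zpowers (g * g))
    (hinv : ∀ x ∈ A, x * x = 1 → x = 1 ∨ x = c ∨ x = r0 ∨ x = r0 * c)
    (hout : ∀ x, x ∉ A → x ^ 4 = 1 ∧ ∃ y ∈ A, x = w * y) (hw : w ∉ A)
    (hgen : ∀ x ∈ A, ∃ (i j : ℕ), x = g ^ i * r0 ^ j) : α = 1 := by
  have h8 : 8 ≤ 2 ^ m := by
    calc 8 = 2 ^ 3 := rfl
      _ ≤ 2 ^ m := Nat.pow_le_pow_right (by norm_num) hm
  have hbig : ∀ y : G, orderOf y = 2 ^ m → α y ∈ A := by
    intro y hy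
    by_contra h
    have h4 := orderOf_dvd_of_pow_eq_one (hout _ h).1
    rw [MulEquiv.orderOf_eq, hy] at h4
    have := Nat.le_of_dvd (by norm_num) h4
    omega
  have hαg := hbig g hgo
  have hαr : α r0 ∈ A := by
    have h := mul_mem (inv_mem hαg) (hbig _ hgr)
    rwa [← map_inv, ← map_mul, inv_mul_cancel_left] at h
  have hgg : α (g * g) = g * g := by
    refine fixed_of_mem_zpowers hr hα (map_mul α g g ▸ hsqA _ hαg) (n := m - 1) ?_
    rw [← pow_two, orderOf_pow' g (by norm_num), hgo, Nat.gcd_eq_right (dvd_pow_self 2 (by omega))]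
    conv_lhs => rw [show m = m - 1 + 1 by omega, pow_succ, Nat.mul_div_cancel _ (by norm_num : 0 < 2)]
  have hαc : α c = c := by
    rw [hc, show 2 ^ (m - 1) = 2 * 2 ^ (m - 2) by rw [← pow_succ']; congr 1; omega, pow_mul,
      map_pow, pow_two, hgg]
  have hcc : c * c = 1 := by
    rw [hc, ← pow_add, ← two_mul, ← pow_succ', show m - 1 + 1 = m by omega, ← hgo, pow_orderOf_eq_one]
  have hcmem : c ∈ A := hc ▸ pow_mem hg _
  have hr1 : r0 ≠ 1 := fun h => hr0g (h ▸ one_mem _)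
  have hrc : r0 ≠ c := fun h => hr0g (h ▸ hc ▸ Subgroup.npow_mem_zpowers g _)
  have hc1 : c ≠ 1 := fun h => by
    have := Nat.le_of_dvd (by positivity) (orderOf_dvd_of_pow_eq_one (hc ▸ h))
    rw [hgo] at this
    exact absurd this (not_le.mpr (Nat.pow_lt_pow_right (by norm_num) (by omega)))
  have hαr0 : α r0 = r0 := by
    rcases hinv _ hαr (by rw [← map_mul, hr0, map_one]) with h | h | h | h
    · exact absurd (α.injective (h.trans (map_one α).symm)) hr1
    · exact absurd (α.injective (h.trans hαc.symm)) hrc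
    · exact h
    · exact fixed_of_shift hr hα h hαc (n := 1) (by rw [pow_one, pow_two, hcc])
  have hz2 : (g⁻¹ * α g) * (g⁻¹ * α g) = 1 := by
    have e : α g * g⁻¹ = g⁻¹ * α g := hAc _ hαg _ (inv_mem hg)
    calc g⁻¹ * α g * (g⁻¹ * α g) = g⁻¹ * (α g * g⁻¹) * α g := by group
      _ = g⁻¹ * g⁻¹ * (α g * α g) := by rw [e]; group
      _ = 1 := by rw [← map_mul, hgg]; group
  have hαg' : α g = g := by
    refine fixed_of_shift hr hα (z := g⁻¹ * α g) (by rw [mul_inv_cancel_left]) ?_ (n := 1)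
      (by rw [pow_one, pow_two, hz2])
    rcases hinv _ (mul_mem (inv_mem hg) hαg) hz2 with h | h | h | h <;> rw [h]
    · exact map_one α
    · exact hαc
    · exact hαr0
    · rw [map_mul, hαr0, hαc]
  have hA : ∀ x ∈ A, α x = x := by
    intro x hx
    obtain ⟨i, j, rfl⟩ := hgen x hx
    rw [map_mul, map_pow, map_pow, hαg', hαr0]
  have hαw : α w ∉ A := fun h => hw (α.injective (hA _ h) ▸ h)
  obtain ⟨y, hy, hwy⟩ := (hout _ hαw).2
  have hy2 : y ^ (2 ^ m) = 1 := by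
    obtain ⟨i, j, rfl⟩ := hgen y hy
    rw [(show Commute (g ^ i) (r0 ^ j) from hAc _ (pow_mem hg i) _ (pow_mem hr0A j)).mul_pow,
      ← pow_mul, mul_comm i, pow_mul, ← hgo, pow_orderOf_eq_one, one_pow, one_mul, hgo, ← pow_mul,
      mul_comm, pow_mul, show (2 : ℕ) ^ m = 2 * 2 ^ (m - 1) by rw [← pow_succ']; congr 1; omega,
      pow_mul, pow_two, hr0, one_pow, one_pow]
  have hww : α w = w := fixed_of_shift hr hα hwy (hA y hy) hy2
  refine MulEquiv.ext fun x => ?_
  by_cases hx : x ∈ A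
  · exact hA x hx
  · obtain ⟨y, hy, rfl⟩ := (hout x hx).2
    rw [map_mul, hww, hA y hy, MulAut.one_apply]

end Cfsg.Agent.Lib.Monomial2Aut
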