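import Mathlib

/-!
Diagonal maps and the swap on pairs.
-/

set_option autoImplicit false

namespace Cfsg.Agent.Lib.Monomial2Aut

variable (F : Type*) [Field F]

/-- The diagonal map with two given non-zero entries. -/
def diagEquiv (a b : Fˣ) : (Fin 2 → F) ≃ₗ[F] (Fin 2 → F) where
  toFun v := ![(a : F) * v 0, (b : F) * v 1]
  map_add' u v := by ext i; fin_cases i <;> simp [mul_add]
  map_smul' k v := by ext i; fin_cases i <;> simp <;> ring
  invFun v := ![((a⁻¹ : Fˣ) : F) * v 0, ((b⁻¹ : Fˣ) : F) * v 1]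
  left_inv v := by ext i; fin_cases i <;> simp
  right_inv v := by ext i; fin_cases i <;> simp

theorem diagEquiv_apply (a b : Fˣ) (v : Fin 2 → F) :
    diagEquiv F a b v = ![(a : F) * v 0, (b : F) * v 1] := rfl

/-- The swap of the two coordinates. -/
def swapEquiv : (Fin 2 → F) ≃ₗ[F] (Fin 2 → F) where
  toFun v := ![v 1, v 0]
  map_add' u v := by ext i; fin_cases i <;> simp
  map_smul' k v := by ext i; fin_cases i <;> simp
  invFun v := ![v 1, v 0]
  left_inv v := by ext i; fin_cases i <;> simp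
  right_inv v := by ext i; fin_cases i <;> simp

theorem swapEquiv_apply (v : Fin 2 → F) : swapEquiv F v = ![v 1, v 0] := rfl

/-- Diagonal maps as a homomorphism in the parameters `(a, s)`, the entries being `a` and `s / a`. -/
def pairHom : Fˣ × Fˣ →* ((Fin 2 → F) ≃ₗ[F] (Fin 2 → F)) :=
  MonoidHom.mk' (fun p => diagEquiv F p.1 (p.2 * p.1⁻¹)) fun p q => by
    refine LinearEquiv.ext fun v => ?_
    show diagEquiv F _ _ v = diagEquiv F p.1 (p.2 * p.1⁻¹) (diagEquiv F q.1 (q.2 * q.1⁻¹) v)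
    ext i; fin_cases i <;> simp [diagEquiv_apply] <;> ring

theorem pairHom_apply (p : Fˣ × Fˣ) (v : Fin 2 → F) :
    pairHom F p v = ![(p.1 : F) * v 0, (p.2 : F) * (p.1 : F)⁻¹ * v 1] := by
  show diagEquiv F p.1 (p.2 * p.1⁻¹) v = _
  rw [diagEquiv_apply, Units.val_mul, Units.val_inv_eq_inv_val]

theorem pairHom_injective : Function.Injective (pairHom F) := by
  intro p q h
  have h' := congrArg (fun f : (Fin 2 → F) ≃ₗ[F] (Fin 2 → F) => f fun _ => 1) h
  simp only [pairHom_apply, mul_one] at h'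
  have h0 : (p.1 : F) = q.1 := congrFun h' 0
  have h1 : (p.2 : F) * (p.1 : F)⁻¹ = q.2 * (q.1 : F)⁻¹ := congrFun h' 1
  rw [h0] at h1
  exact Prod.ext (Units.ext h0) (Units.ext (mul_right_cancel₀ (inv_ne_zero q.1.ne_zero) h1))

theorem swap_not_pair (p : Fˣ × Fˣ) : pairHom F p ≠ swapEquiv F := by
  intro h
  have h' := congrArg (fun f : (Fin 2 → F) ≃ₗ[F] (Fin 2 → F) => f ![1, 0] 0) h
  simp [pairHom_apply, swapEquiv_apply] at h'

theorem swap_pair_sq (p : Fˣ × Fˣ) (hp : p.2 * p.2 = 1) :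
    (swapEquiv F * pairHom F p) * (swapEquiv F * pairHom F p) = pairHom F (p.2, 1) := by
  refine LinearEquiv.ext fun v => ?_
  show swapEquiv F (pairHom F p (swapEquiv F (pairHom F p v))) = pairHom F (p.2, 1) v
  have hi : (p.2 : F)⁻¹ = p.2 :=
    inv_eq_of_mul_eq_one_right (by rw [← Units.val_mul, hp, Units.val_one])
  have h0 : (p.1 : F) ≠ 0 := p.1.ne_zero
  ext i
  fin_cases i <;> simp [pairHom_apply, swapEquiv_apply, hi] <;> field_simp

end Cfsg.Agent.Lib.Monomial2Aut
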